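import Groth.Agent.ExistSep.Main
import Groth.Agent.PicLift.ClosedAlg

/-!
Algebraization of compatible closed subschemes with proper bottom level.
-/

set_option autoImplicit false
set_option backward.isDefEq.respectTransparency false
set_option backward.isDefEq.respectTransparency.types false
set_option linter.style.haveILetI false
set_option maxHeartbeats 800000

universe u

open CategoryTheory CategoryTheory.Limits AlgebraicGeometry TopologicalSpace Opposite

noncomputable section

namespace Groth.Agent.ExistSep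

open Groth.Agent Groth.Agent.FFun

variable {A : Type u} [CommRing A] [IsNoetherianRing A] (I : Ideal A) [IsAdicComplete I A]
  (P : Scheme.{u}) [P.Over (Spec (CommRingCat.of A))] [IsSeparated (P ↘ Spec (CommRingCat.of A))]
  [LocallyOfFiniteType (P ↘ Spec (CommRingCat.of A))] [QuasiCompact (P ↘ Spec (CommRingCat.of A))]

/-- Compatible closed subschemes of the thickenings come from a proper closed subscheme. -/
theorem exists_closedAlg_sep (Xs : ℕ → Scheme.{u}) (t : ∀ k, Xs k ⟶ Xs (k + 1)) (c : ∀ k, Xs k ⟶ P)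
    [∀ k, IsClosedImmersion (c k)] (q : ∀ k, Xs k ⟶ Spec (CommRingCat.of (A ⧸ I ^ (k + 1))))
    (hcq : ∀ k, c k ≫ (P ↘ Spec (CommRingCat.of A)) = q k ≫ CohB1.specQuot I k)
    (htc : ∀ k, t k ≫ c (k + 1) = c k)
    (sq : ∀ k, IsPullback (t k) (q k) (c (k + 1) ≫ (P ↘ Spec (CommRingCat.of A))) (CohB1.specQuot I k))
    (hp : IsProper (c 0 ≫ (P ↘ Spec (CommRingCat.of A)))) :
    ∃ (Y : Scheme.{u}) (ι : Y ⟶ P) (w : ∀ k, Xs k ⟶ Y), IsClosedImmersion ι ∧
      IsProper (ι ≫ (P ↘ Spec (CommRingCat.of A))) ∧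
      (∀ k, t k ≫ w (k + 1) = w k) ∧ (∀ k, w k ≫ ι = c k) ∧
      ∀ k, IsPullback (w k) (q k) (ι ≫ (P ↘ Spec (CommRingCat.of A))) (CohB1.specQuot I k) := by
  haveI : CompactSpace P := QuasiCompact.compactSpace_of_compactSpace (P ↘ Spec (CommRingCat.of A))
  haveI : IsLocallyNoetherian P := LocallyOfFiniteType.isLocallyNoetherian (P ↘ Spec (CommRingCat.of A))
  haveI : IsNoetherian P := ⟨⟩
  haveI : ∀ k, IsNoetherian (Xs k) := fun k => by
    haveI := LocallyOfFiniteType.isLocallyNoetherian (c k)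
    haveI : CompactSpace (Xs k) := QuasiCompact.compactSpace_of_compactSpace (c k)
    exact ⟨⟩
  let G : ℕ → P.Modules := fun k => (Scheme.Modules.pushforward (c k)).obj (Coh.structureModule (Xs k))
  have hG : ∀ k, Coh.IsCoh (G k) := fun k => QCoh.isCoh_pushforward_finite (c k) QCoh.isCoh_structureModule'
  let tr : ∀ k, G (k + 1) ⟶ G k := fun k => PicLift.pushMap (t k) (c (k + 1)) (c k) (htc k)
  have hck : ∀ k, ∃ hz : Formal.smulFamily (I ^ (k + 1)) (G (k + 1)) ≫ tr k = 0, IsIso (cokernel.desc _ _ hz) :=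
    fun k => PicLift.isCokernel_pushMap (htc k) (sq k)
  have hkill : ∀ k, Formal.KilledBy (I ^ (k + 1)) (G k) := fun k => by
    obtain ⟨hz, hiso⟩ := hck k
    haveI : Epi (tr k) := by
      haveI := hiso
      rw [← cokernel.π_desc _ _ hz]
      exact epi_comp _ _
    exact PicLift.killedBy_of_epi (tr k) hz
  let F : ℕᵒᵖ ⥤ P.Modules := Functor.ofOpSequence (X := G) tr
  have hF : Formal.IsCohFormal I F := by
    refine ⟨hG, hkill, fun k => ?_⟩
    rw [show F.map (homOfLE (Nat.le_succ k)).op = tr k from Functor.ofOpSequence_map_homOfLE_succ (X := G) tr k]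
    exact hck k
  have hFs : ClSub.IsProperOver (P ↘ Spec (CommRingCat.of A)) (CohB1.support (F.obj (op 0))) := by
    haveI := hp
    refine QCoh.isProperOver_of_subset (c 0) (QCoh.isClosed_support_of_isFT (hG 0).1 (hG 0).2) ?_
    exact (H26.FMod.support_pushforward_subset (c 0) QCoh.isQCoh_structureModule (hG 0).1
      ((c 0).isClosedMap _ (QCoh.isClosed_support_of_isFT QCoh.isQCoh_structureModule QCoh.isCoh_structureModule'.2))).trans
      (Set.image_subset_range _ _)
  obtain ⟨M, hM, hMs, ⟨β⟩⟩ := exists_algebraization_properSupport I P F hF hFs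
  let K := QCoh.annIdeal hM.1 hM.2
  let ι := K.subschemeι
  letI : K.subscheme.Over (Spec (CommRingCat.of A)) := ⟨ι ≫ (P ↘ Spec (CommRingCat.of A))⟩
  haveI : IsProper (K.subscheme ↘ Spec (CommRingCat.of A)) :=
    QCoh.isProper_comp_of_isProperOver ι hMs (by rw [Scheme.IdealSheafData.range_subschemeι]; exact le_rfl)
  have hle : ∀ k, ι.ker ≤ (c k).ker := fun k U a ha => by
    rw [Scheme.IdealSheafData.ker_subschemeι] at ha
    rw [Scheme.Hom.ker_apply, RingHom.mem_ker]
    haveI : Epi (modJπ (I ^ (k + 1)) M) := coequalizer.π_epi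
    obtain ⟨z, hz⟩ := QCoh.app_surjective_of_epi hM.1 (hG k).1 (modJπ (I ^ (k + 1)) M ≫ β.hom.app (op k)) U.2
      (show Γ(G k, U.1) from (1 : Γ(Xs k, c k ⁻¹ᵁ U.1)))
    have h0 : a • (show Γ(G k, U.1) from (1 : Γ(Xs k, c k ⁻¹ᵁ U.1))) = 0 := by
      rw [← hz, ← Scheme.Modules.Hom.app_smul, Module.mem_annihilator.1 ha z, map_zero]
    exact (mul_one ((c k).app U.1 a)).symm.trans h0
  let c' : ∀ k, Xs k ⟶ K.subscheme := fun k => IsClosedImmersion.lift ι (c k) (hle k)
  have hc' : ∀ k, c' k ≫ ι = c k := fun k => IsClosedImmersion.lift_fac _ _ _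
  haveI : ∀ k, IsClosedImmersion (c' k) := fun k => by
    haveI : IsClosedImmersion (c' k ≫ ι) := by rw [hc']; infer_instance
    exact IsClosedImmersion.of_comp (c' k) ι
  have hstr : ∀ k, c' k ≫ (K.subscheme ↘ Spec (CommRingCat.of A)) = c k ≫ (P ↘ Spec (CommRingCat.of A)) := fun k => by
    show c' k ≫ ι ≫ _ = _
    rw [← Category.assoc, hc']
  obtain ⟨Y, j, w, hj, h1, h2, h3⟩ := PicLift.exists_closedAlg I K.subscheme Xs t c' q
    (fun k => by rw [hstr, hcq]) (fun k => by rw [← cancel_mono ι, Category.assoc, hc', hc', htc])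
    (fun k => by rw [hstr]; exact sq k)
  haveI := hj
  have he : j ≫ (K.subscheme ↘ Spec (CommRingCat.of A)) = (j ≫ ι) ≫ (P ↘ Spec (CommRingCat.of A)) :=
    (Category.assoc _ _ _).symm
  refine ⟨Y, j ≫ ι, w, inferInstance, ?_, h1, fun k => by rw [← Category.assoc, h2, hc'], fun k => ?_⟩
  · rw [← he]; infer_instance
  · rw [← he]; exact h3 k

end Groth.Agent.ExistSep
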