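import Groth.Agent.ExistSep.QP
import Groth.Agent.ExistSep.TrickyP
import Groth.Agent.SeesawX.PnSpec
import Groth.Agent.S0025
import Groth.Agent.S0798

/-!
# Grothendieck's existence theorem with proper support
-/

set_option autoImplicit false
set_option backward.isDefEq.respectTransparency false
set_option backward.isDefEq.respectTransparency.types false
set_option linter.style.haveILetI false
set_option maxHeartbeats 1600000

universe u

open CategoryTheory CategoryTheory.Limits AlgebraicGeometry TopologicalSpace Opposite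

attribute [local instance] Groth.Agent.QCoh.hasFiniteBiproducts

noncomputable section

namespace Groth.Agent.ExistSep

open Groth.Agent Groth.Agent.FFun Groth.Agent.ExistEasy

/-- Direct images along proper maps of modules with proper support. -/
theorem isProperOver_pushforward {S X Y : Scheme.{u}} {p : X ⟶ S} {q : Y ⟶ S} [LocallyOfFiniteType p]
    [LocallyOfFiniteType q] (f : X ⟶ Y) [IsProper f] (w : f ≫ q = p) {M : X.Modules} (hM : Coh.IsCoh M)
    (hfM : Coh.IsCoh ((Scheme.Modules.pushforward f).obj M))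
    (hs : ClSub.IsProperOver p (CohB1.support M)) :
    ClSub.IsProperOver q (CohB1.support ((Scheme.Modules.pushforward f).obj M)) :=
  QCoh.IsProperOver.subset (QCoh.IsProperOver.image w hs fun i _ _ => inferInstance)
    (QCoh.isClosed_support_of_isFT hfM.1 hfM.2)
    (H26.FMod.support_pushforward_subset f hM.1 hfM.1
      (f.isClosedMap _ (QCoh.isClosed_support_of_isFT hM.1 hM.2)))

variable {A : Type u} [CommRing A] [IsNoetherianRing A] (I : Ideal A) [IsAdicComplete I A]

/-- Existence for all closed subschemes with image in a given closed subset. -/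
theorem exists_algebraization_aux (X : Scheme.{u}) [AlgebraicGeometry.IsNoetherian X]
    (Z : Closeds X) :
    ∀ (Y : Scheme.{u}) [Y.Over (Spec (CommRingCat.of A))] [IsSeparated (Y ↘ Spec (CommRingCat.of A))]
      [LocallyOfFiniteType (Y ↘ Spec (CommRingCat.of A))] [QuasiCompact (Y ↘ Spec (CommRingCat.of A))]
      (j : Y ⟶ X) [IsClosedImmersion j], Set.range j ⊆ (Z : Set X) →
      ∀ G : ℕᵒᵖ ⥤ Y.Modules, Formal.IsCohFormal I G →
        ClSub.IsProperOver (Y ↘ Spec (CommRingCat.of A)) (CohB1.support (G.obj (op 0))) →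
        ∃ M : Y.Modules, Coh.IsCoh M ∧ ClSub.IsProperOver (Y ↘ Spec (CommRingCat.of A)) (CohB1.support M) ∧
          Nonempty (Formal.completion I M ≅ G) := by
  induction Z using WellFoundedLT.induction with
  | _ Z ih =>
  intro Y _ _ _ _ j _ hj G hG hGs
  haveI : CompactSpace Y := QuasiCompact.compactSpace_of_compactSpace (Y ↘ Spec (CommRingCat.of A))
  haveI : IsLocallyNoetherian Y := LocallyOfFiniteType.isLocallyNoetherian (Y ↘ Spec (CommRingCat.of A))
  haveI : AlgebraicGeometry.IsNoetherian Y := { __ := ‹IsLocallyNoetherian Y›, __ := ‹CompactSpace Y› }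
  rcases isEmpty_or_nonempty Y with hY | hY
  · haveI : IsProper (Y ↘ Spec (CommRingCat.of A)) := by
      haveI : IsClosedImmersion (Y ↘ Spec (CommRingCat.of A)) :=
        IsClosedImmersion.of_isPreimmersion _ (by rw [Set.range_eq_empty]; exact isClosed_empty)
      infer_instance
    obtain ⟨M, hM, hβ⟩ := exists_algebraization_proper I Y G hG
    refine ⟨M, hM, ?_, hβ⟩
    rw [show CohB1.support M = ∅ from Set.eq_empty_of_forall_notMem fun y => (IsEmpty.false y).elim]
    exact QCoh.isProperOver_empty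
  -- Chow
  haveI : IsNoetherian (Spec (CommRingCat.of A)) := inferInstance
  obtain ⟨N, X', π, p₀, hp₀, hpπ, hπ, -, U, hUd, hUiso⟩ := S0025.result (Y ↘ Spec (CommRingCat.of A))
  obtain ⟨a, ha, -⟩ := SeesawX.PnSpec.exists_iso N A
  let p : X' ⟶ CohB1.ProjSpace N A := p₀ ≫ a.hom
  haveI := hp₀
  haveI := hπ
  haveI : IsImmersion p := inferInstanceAs (IsImmersion (p₀ ≫ a.hom))
  letI : X'.Over (Spec (CommRingCat.of A)) := ⟨π ≫ (Y ↘ Spec (CommRingCat.of A))⟩
  have hp : p ≫ CohB1.ProjSpace.toSpec N A = X' ↘ Spec (CommRingCat.of A) := by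
    show (p₀ ≫ a.hom) ≫ _ = π ≫ _
    rw [Category.assoc, ha, hpπ]
  haveI : CompactSpace X' := QuasiCompact.compactSpace_of_compactSpace π
  haveI : IsLocallyNoetherian X' := LocallyOfFiniteType.isLocallyNoetherian π
  haveI : AlgebraicGeometry.IsNoetherian X' := { __ := ‹IsLocallyNoetherian X'›, __ := ‹CompactSpace X'› }
  haveI : LocallyOfFiniteType (X' ↘ Spec (CommRingCat.of A)) :=
    inferInstanceAs (LocallyOfFiniteType (π ≫ (Y ↘ Spec (CommRingCat.of A))))
  have hG' : Formal.IsCohFormal I (G ⋙ Scheme.Modules.pullback π) := Algz7.isCohFormal_pullback π rfl hG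
  have hG's : ClSub.IsProperOver (X' ↘ Spec (CommRingCat.of A))
      (CohB1.support ((G ⋙ Scheme.Modules.pullback π).obj (op 0))) := by
    show ClSub.IsProperOver _ (CohB1.support ((Scheme.Modules.pullback π).obj (G.obj (op 0))))
    rw [QCoh.support_pullback π (hG.1 0).1 (hG.1 0).2]
    exact QCoh.IsProperOver.preimage rfl hGs
  obtain ⟨F, hF, hFs, ⟨β⟩⟩ := exists_alg_qp I p hp _ hG' hG's
  let C : Closeds Y := ⟨(U : Set Y)ᶜ, U.2.isClosed_compl⟩
  let J : Y.IdealSheafData := Scheme.IdealSheafData.vanishingIdeal C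
  have hJ : (J.support : Set Y) = (U : Set Y)ᶜ := Scheme.IdealSheafData.coe_support_vanishingIdeal C
  have hJU : J.support.compl = U := by
    refine Opens.ext ?_
    show (J.support : Set Y)ᶜ = _
    rw [hJ, compl_compl]
  have hUne : (U : Set Y).Nonempty := hUd.nonempty
  obtain ⟨α, t, hα⟩ := push_pull π rfl hF I hG β.symm J (hJU ▸ hUiso)
  have hH : Coh.IsCoh ((Scheme.Modules.pushforward π).obj F) := isCoh_pushforward_proper π hF
  refine exists_algebraization_two_of J
    (fun M => ClSub.IsProperOver (Y ↘ Spec (CommRingCat.of A)) (CohB1.support M))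
    (fun M N g _ hM hN hs => QCoh.IsProperOver.subset hs (QCoh.isClosed_support_of_isFT hN.1 hN.2) (QCoh.support_of_epi hM.1 hN.1 g))
    (fun M N hM hN hs hs' => ?_) hG (fun e => ⟨fun M₁ M₂ h₁ h₂ hs₁ hs₂ _ _ ψ => ?_, fun G₁ hG₁ hs₁ hK₁ => ?_⟩)
    (fun {M N} hM hN φ hs => ?_) hGs hH (isProperOver_pushforward π rfl hF hH hFs) α (t + 1)
    (fun n => (hα n).1) (fun n => (hα n).2)
  · have hP := isCoh_biprod hM hN
    refine QCoh.IsProperOver.subset (QCoh.IsProperOver.union hs hs') (QCoh.isClosed_support_of_isFT hP.1 hP.2) ?_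
    exact QCoh.support_subset_union (ShortComplex.Splitting.ofHasBinaryBiproduct M N).shortExact hM.1 hP.1 hN.1
  · exact S0798.result A I Y M₁ M₂ h₁ h₂ hs₁ hs₂ ψ
  rotate_left
  · have hK := QCoh.isCoh_kernel hM hN φ
    exact QCoh.IsProperOver.subset hs (QCoh.isClosed_support_of_isFT hK.1 hK.2) (QCoh.mem_support_of_mono hK.1 hM.1 (kernel.ι φ))
  -- the smaller closed subscheme
  let W : Scheme.{u} := (J ^ e).subscheme
  let k : W ⟶ Y := (J ^ e).subschemeι
  letI : W.Over (Spec (CommRingCat.of A)) := ⟨k ≫ (Y ↘ Spec (CommRingCat.of A))⟩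
  haveI : IsSeparated (W ↘ Spec (CommRingCat.of A)) := inferInstanceAs (IsSeparated (k ≫ _))
  haveI : LocallyOfFiniteType (W ↘ Spec (CommRingCat.of A)) := inferInstanceAs (LocallyOfFiniteType (k ≫ _))
  haveI : QuasiCompact (W ↘ Spec (CommRingCat.of A)) := inferInstanceAs (QuasiCompact (k ≫ _))
  haveI : CompactSpace W := QuasiCompact.compactSpace_of_compactSpace (W ↘ Spec (CommRingCat.of A))
  haveI : IsLocallyNoetherian W := LocallyOfFiniteType.isLocallyNoetherian (W ↘ Spec (CommRingCat.of A))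
  haveI : AlgebraicGeometry.IsNoetherian W := { __ := ‹IsLocallyNoetherian W›, __ := ‹CompactSpace W› }
  have hrange : Set.range k ⊆ (U : Set Y)ᶜ := by
    rw [Scheme.IdealSheafData.range_subschemeι, ← hJ]
    cases e with
    | zero =>
      rw [pow_zero]
      intro y hy
      rw [Scheme.IdealSheafData.one_eq_top, Scheme.IdealSheafData.support_top] at hy
      exact hy.elim
    | succ e => rw [Scheme.IdealSheafData.support_pow_succ]
  let Z' : Closeds X := ⟨j '' (U : Set Y)ᶜ, j.isClosedEmbedding.isClosedMap _ U.2.isClosed_compl⟩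
  have hlt : Z' < Z := by
    refine lt_of_le_of_ne (fun x hx => hj (Set.image_subset_range _ _ hx)) fun he => ?_
    obtain ⟨u, hu⟩ := hUne
    have : j u ∈ (Z' : Set X) := he ▸ hj ⟨u, rfl⟩
    obtain ⟨v, hv, hvu⟩ := this
    exact hv ((j.isClosedEmbedding.injective hvu) ▸ hu)
  obtain ⟨M, hM, hMs, ⟨γ⟩⟩ := ih Z' hlt W (k ≫ j) (by
    rintro _ ⟨w, rfl⟩
    exact ⟨k w, hrange ⟨w, rfl⟩, rfl⟩) (G₁ ⋙ Scheme.Modules.pullback k) (Algz7.isCohFormal_pullback k rfl hG₁) (by
    show ClSub.IsProperOver _ (CohB1.support ((Scheme.Modules.pullback k).obj (G₁.obj (op 0))))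
    rw [QCoh.support_pullback k (hG₁.1 0).1 (hG₁.1 0).2]
    exact QCoh.IsProperOver.preimage rfl hs₁)
  refine ⟨(Scheme.Modules.pushforward k).obj M, QCoh.isCoh_pushforward_finite k hM,
    isProperOver_pushforward k rfl hM (QCoh.isCoh_pushforward_finite k hM) hMs, fun V a ha m => ?_,
    ⟨pushCompIso k rfl I M hM ≪≫ Functor.isoWhiskerRight γ (Scheme.Modules.pushforward k) ≪≫
      (NatIso.ofComponents (fun n =>
        haveI := isIso_ηK_of_killed (J ^ e) (hG₁.1 n.unop).1 (hK₁ n.unop)
        asIso (ηK (J ^ e) (G₁.obj n)))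
        (fun {n m} f => (ηK_natural (J ^ e) (G₁.map f)).symm)).symm⟩⟩
  show (k.app V.1 a) • (show Γ(M, k ⁻¹ᵁ V.1) from m) = 0
  have h0 : k.app V.1 a = 0 := by
    rw [← RingHom.mem_ker, ← Scheme.Hom.ker_apply, Scheme.IdealSheafData.ker_subschemeι]
    exact ha
  rw [h0]
  exact zero_smul _ _

include I in
/-- Grothendieck's existence theorem with proper support. -/
theorem exists_algebraization_properSupport (X : Scheme.{u}) [X.Over (Spec (CommRingCat.of A))]
    [IsSeparated (X ↘ Spec (CommRingCat.of A))] [LocallyOfFiniteType (X ↘ Spec (CommRingCat.of A))]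
    [QuasiCompact (X ↘ Spec (CommRingCat.of A))] (G : ℕᵒᵖ ⥤ X.Modules) (hG : Formal.IsCohFormal I G)
    (hGs : ClSub.IsProperOver (X ↘ Spec (CommRingCat.of A)) (CohB1.support (G.obj (op 0)))) :
    ∃ M : X.Modules, Coh.IsCoh M ∧ ClSub.IsProperOver (X ↘ Spec (CommRingCat.of A)) (CohB1.support M) ∧
      Nonempty (Formal.completion I M ≅ G) := by
  haveI : CompactSpace X := QuasiCompact.compactSpace_of_compactSpace (X ↘ Spec (CommRingCat.of A))
  haveI : IsLocallyNoetherian X := LocallyOfFiniteType.isLocallyNoetherian (X ↘ Spec (CommRingCat.of A))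
  haveI : AlgebraicGeometry.IsNoetherian X := { __ := ‹IsLocallyNoetherian X›, __ := ‹CompactSpace X› }
  exact exists_algebraization_aux I X ⊤ X (𝟙 X) (fun _ _ => trivial) G hG hGs

end Groth.Agent.ExistSep
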