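import Groth.Agent.ExistSep.Closed
import Groth.Agent.FComplLib.NearIso
import Groth.Agent.PicLift.ThickKer

/-!
Algebraization of compatible morphisms.
-/

set_option autoImplicit false
set_option backward.isDefEq.respectTransparency false
set_option backward.isDefEq.respectTransparency.types false
set_option linter.style.haveILetI false
set_option maxHeartbeats 800000

universe u

open CategoryTheory CategoryTheory.Limits AlgebraicGeometry TopologicalSpace Opposite

noncomputable section

namespace Groth.Agent.ExistSep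

open Groth.Agent

variable {A : Type u} [CommRing A] [IsNoetherianRing A] (I : Ideal A) [IsAdicComplete I A]

/-- A morphism of proper schemes which is an isomorphism on all thickenings is an isomorphism. -/
theorem isIso_of_levels {W X : Scheme.{u}} (f : X ⟶ Spec (CommRingCat.of A)) [IsProper f] (π : W ⟶ X)
    [IsProper (π ≫ f)]
    (w : ∀ n, CohB1.thick f I n ⟶ W) (hwπ : ∀ n, w n ≫ π = CohB1.thickι f I n)
    (hsq : ∀ n, IsPullback (w n) (CohB1.thickToBase f I n) (π ≫ f) (CohB1.specQuot I n)) : IsIso π := by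
  let 𝓙 := FSch.idealSpec A I
  have hc : FSch.PowCompat π (𝓙.comap (π ≫ f)) (𝓙.comap f) := fun n => by
    rw [Scheme.IdealSheafData.comap_comp]
    exact FComplLib.powCompat π (𝓙.comap f) (n + 1)
  have hiso : ∀ n, IsIso ((FSch.completionMap π (𝓙.comap (π ≫ f)) (𝓙.comap f) hc : FSch.Hom _ _).app n) := by
    intro n
    haveI : IsClosedImmersion (CohB1.specQuot I n) := IsClosedImmersion.spec_of_surjective _ Ideal.Quotient.mk_surjective
    haveI : IsClosedImmersion (CohB1.thickι f I n) := MorphismProperty.pullback_fst (P := @IsClosedImmersion) _ _ inferInstance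
    haveI : IsClosedImmersion (w n) := MorphismProperty.of_isPullback (hsq n).flip inferInstance
    let iX := FSch.completionToX W (𝓙.comap (π ≫ f)) n
    let iY := FSch.completionToX X (𝓙.comap f) n
    haveI : IsClosedImmersion iX := inferInstanceAs (IsClosedImmersion (Scheme.IdealSheafData.subschemeι _))
    haveI : IsClosedImmersion iY := inferInstanceAs (IsClosedImmersion (Scheme.IdealSheafData.subschemeι _))
    have hkw : (w n).ker = iX.ker := by
      rw [show w n = (hsq n).isoPullback.hom ≫ CohB1.thickι (π ≫ f) I n from (hsq n).isoPullback_hom_fst.symm,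
        Scheme.Hom.ker_comp_of_isIso, PicLift.ker_thickι]
      exact (Scheme.IdealSheafData.ker_subschemeι _).symm
    have hkf : (CohB1.thickι f I n).ker = iY.ker := by
      rw [PicLift.ker_thickι]
      exact (Scheme.IdealSheafData.ker_subschemeι _).symm
    let a := IsClosedImmersion.lift (w n) iX hkw.le
    let b := IsClosedImmersion.lift (CohB1.thickι f I n) iY hkf.le
    haveI : IsIso a := IsClosedImmersion.isIso_lift (w n) iX hkw
    haveI : IsIso b := IsClosedImmersion.isIso_lift (CohB1.thickι f I n) iY hkf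
    let e := ((FSch.completionMap π (𝓙.comap (π ≫ f)) (𝓙.comap f) hc : FSch.Hom _ _).app n)
    have he : e ≫ b = a := by
      rw [← cancel_mono (CohB1.thickι f I n), Category.assoc, IsClosedImmersion.lift_fac]
      refine (FComplLib.completionMap_app_comp _ π (𝓙.comap f) hc n).trans ?_
      show iX ≫ π = _
      rw [show iX = a ≫ w n from (IsClosedImmersion.lift_fac _ _ _).symm, Category.assoc, hwπ]
    haveI : IsIso (e ≫ b) := by rw [he]; infer_instance
    exact IsIso.of_isIso_comp_right e b
  obtain ⟨U, hU, -, hπ⟩ := FComplLib.exists_nhd_supp (π ≫ f) f π rfl 𝓙 hc (fun n => by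
    haveI := hiso n; infer_instance)
  have hU' : U = ⊤ := by
    refine top_le_iff.1 fun p _ => ?_
    obtain ⟨m, hm, hpm⟩ := (p : PrimeSpectrum A).asIdeal.exists_le_maximal (p : PrimeSpectrum A).isPrime.ne_top
    refine ((PrimeSpectrum.le_iff_specializes (p : PrimeSpectrum A) ⟨m, hm.isPrime⟩).1 hpm).mem_open U.2 (hU ?_)
    show (⟨m, hm.isPrime⟩ : PrimeSpectrum A) ∈ (FSch.idealSpec A I).support
    show (⟨m, hm.isPrime⟩ : PrimeSpectrum A) ∈ ((FSch.idealSpec A I).support : Set (Spec (CommRingCat.of A)))
    rw [FSch.idealSpec, Scheme.Hom.support_ker]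
    refine subset_closure ⟨⟨m.map (Ideal.Quotient.mk I), ?_⟩, PrimeSpectrum.ext ?_⟩
    · exact Ideal.map_isPrime_of_surjective Ideal.Quotient.mk_surjective (by
        rw [Ideal.mk_ker]
        exact (IsAdicComplete.le_jacobson_bot I).trans (sInf_le ⟨bot_le, hm⟩))
    · show (m.map (Ideal.Quotient.mk I)).comap (Ideal.Quotient.mk I) = m
      rw [Ideal.comap_map_of_surjective' _ Ideal.Quotient.mk_surjective, Ideal.mk_ker]
      exact sup_eq_left.2 ((IsAdicComplete.le_jacobson_bot I).trans (sInf_le ⟨bot_le, hm⟩))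
  subst hU'
  haveI : IsIso (π ∣_ f ⁻¹ᵁ (⊤ : (Spec (CommRingCat.of A)).Opens)) := hπ hiso
  have h2 : IsIso (π ∣_ (⊤ : X.Opens)) := by
    rwa [Scheme.Hom.preimage_top] at this
  haveI := h2
  haveI : IsIso (⊤ : X.Opens).ι := inferInstanceAs (IsIso X.topIso.hom)
  haveI : IsIso (π ⁻¹ᵁ (⊤ : X.Opens)).ι := by
    rw [Scheme.Hom.preimage_top]; exact inferInstanceAs (IsIso W.topIso.hom)
  haveI : IsIso ((π ⁻¹ᵁ (⊤ : X.Opens)).ι ≫ π) := by
    rw [← morphismRestrict_ι]; infer_instance
  exact IsIso.of_isIso_comp_left (π ⁻¹ᵁ (⊤ : X.Opens)).ι π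

end Groth.Agent.ExistSep
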