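import Groth.Agent.ExistSep.Supp
import Groth.Agent.ExistEasy.PP.BaseIdeal
import Groth.Agent.PnCoh.Chow.Proper

/-!
# Existence with proper support on a quasi-projective scheme
-/

set_option autoImplicit false
set_option backward.isDefEq.respectTransparency false
set_option backward.isDefEq.respectTransparency.types false
set_option linter.style.haveILetI false
set_option maxHeartbeats 1000000

universe u

open CategoryTheory CategoryTheory.Limits AlgebraicGeometry TopologicalSpace Opposite

noncomputable section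

namespace Groth.Agent.ExistSep

open Groth.Agent Groth.Agent.FFun Groth.Agent.ExistEasy

/-- Isomorphisms may be tested on affine opens inside an open or away from a closed subset of it. -/
theorem isIso_of_parts {P : Scheme.{u}} {M N : P.Modules} (φ : M ⟶ N) (O : P.Opens) {C : Set P}
    (hC : IsClosed C) (hCO : C ⊆ O)
    (h1 : ∀ U : P.Opens, IsAffineOpen U → U ≤ O → Function.Bijective (φ.app U))
    (h2 : ∀ U : P.Opens, IsAffineOpen U → Disjoint (U : Set P) C → Function.Bijective (φ.app U)) : IsIso φ := by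
  refine QCoh.isIso_of_isBasis φ (B := {U : P.Opens | IsAffineOpen U ∧ (U ≤ O ∨ Disjoint (U : Set P) C)}) ?_
    fun U hU => hU.2.elim (h1 U hU.1) (h2 U hU.1)
  rw [Opens.isBasis_iff_nbhd]
  intro W x hx
  by_cases hxO : x ∈ O
  · obtain ⟨_, ⟨U, hU, rfl⟩, hxU, hle⟩ :=
      P.isBasis_affineOpens.exists_subset_of_mem_open (show x ∈ ((W ⊓ O : P.Opens) : Set P) from ⟨hx, hxO⟩) (W ⊓ O).2
    exact ⟨U, ⟨hU, Or.inl fun y hy => (hle hy).2⟩, hxU, fun y hy => (hle hy).1⟩
  · obtain ⟨_, ⟨U, hU, rfl⟩, hxU, hle⟩ := P.isBasis_affineOpens.exists_subset_of_mem_open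
      (show x ∈ (W : Set P) ∩ Cᶜ from ⟨hx, fun h => hxO (hCO h)⟩) (W.2.inter hC.isOpen_compl)
    exact ⟨U, ⟨hU, Or.inr (Set.disjoint_left.2 fun y hy => (hle hy).2)⟩, hxU, fun y hy => (hle hy).1⟩

variable {A : Type u} [CommRing A] [IsNoetherianRing A] (I : Ideal A) [IsAdicComplete I A]

include I in
/-- Existence with proper support on an open subscheme of a proper scheme. -/
theorem exists_alg_open {O P : Scheme.{u}} [O.Over (Spec (CommRingCat.of A))] [P.Over (Spec (CommRingCat.of A))]
    [IsProper (P ↘ Spec (CommRingCat.of A))] (h : O ⟶ P) [IsOpenImmersion h]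
    (hh : h ≫ (P ↘ Spec (CommRingCat.of A)) = O ↘ Spec (CommRingCat.of A))
    (G : ℕᵒᵖ ⥤ O.Modules) (hG : Formal.IsCohFormal I G)
    (hGs : ClSub.IsProperOver (O ↘ Spec (CommRingCat.of A)) (CohB1.support (G.obj (op 0)))) :
    ∃ M : O.Modules, Coh.IsCoh M ∧ ClSub.IsProperOver (O ↘ Spec (CommRingCat.of A)) (CohB1.support M) ∧
      Nonempty (Formal.completion I M ≅ G) := by
  haveI : CompactSpace P := QuasiCompact.compactSpace_of_compactSpace (P ↘ Spec (CommRingCat.of A))
  haveI : IsLocallyNoetherian P := LocallyOfFiniteType.isLocallyNoetherian (P ↘ Spec (CommRingCat.of A))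
  haveI : IsNoetherian P := ⟨⟩
  haveI : IsLocallyNoetherian O := LocallyOfFiniteType.isLocallyNoetherian h
  haveI : LocallyOfFiniteType (O ↘ Spec (CommRingCat.of A)) := by rw [← hh]; infer_instance
  haveI : QuasiCompact h := inferInstance
  let C₀ := CohB1.support (G.obj (op 0))
  let C : Set P := ⇑h '' C₀
  have hCc : IsClosed C := by
    refine (QCoh.IsProperOver.image (q := P ↘ Spec (CommRingCat.of A)) hh hGs fun {T} i _ hi => ?_).1
    haveI : IsProper ((i ≫ h) ≫ (P ↘ Spec (CommRingCat.of A))) := by rw [Category.assoc, hh]; exact hi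
    haveI : IsProper (i ≫ h) := IsProper.of_comp (i ≫ h) (P ↘ Spec (CommRingCat.of A))
    infer_instance
  have hCO : C ⊆ (h.opensRange : Set P) := Set.image_subset_range _ _
  -- the direct image
  have hGn : ∀ n, Coh.IsCoh ((Scheme.Modules.pushforward h).obj (G.obj (op n))) := fun n => by
    have hM := hG.1 n
    let K := QCoh.annIdeal hM.1 hM.2
    let k := K.subschemeι
    have hr : Set.range k ⊆ C₀ := by
      rw [Scheme.IdealSheafData.range_subschemeι]
      exact support_subset hG n
    haveI : IsProper (k ≫ (O ↘ Spec (CommRingCat.of A))) := QCoh.isProper_comp_of_isProperOver k hGs hr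
    haveI : IsProper ((k ≫ h) ≫ (P ↘ Spec (CommRingCat.of A))) := by rw [Category.assoc, hh]; infer_instance
    haveI : IsProper (k ≫ h) := IsProper.of_comp (k ≫ h) (P ↘ Spec (CommRingCat.of A))
    haveI : IsLocallyNoetherian K.subscheme := LocallyOfFiniteType.isLocallyNoetherian k
    have hu : IsIso ((Scheme.Modules.pullbackPushforwardAdjunction k).unit.app (G.obj (op n))) :=
      (QCoh.isIso_unit_closed_iff k hM.1).2 fun U a ha s => by
        rw [Scheme.IdealSheafData.ker_subschemeι] at ha
        exact Module.mem_annihilator.1 ha s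
    have h1 : Coh.IsCoh ((Scheme.Modules.pushforward (k ≫ h)).obj ((Scheme.Modules.pullback k).obj (G.obj (op n)))) :=
      isCoh_pushforward_proper (k ≫ h) (ZClosLib.isCoh_pullback k hM)
    exact SheafHomX.isCoh_of_iso ((Scheme.Modules.pushforward h).mapIso
      (asIso ((Scheme.Modules.pullbackPushforwardAdjunction k).unit.app (G.obj (op n)))) ≪≫
      (Scheme.Modules.pushforwardComp k h).app _).symm h1
  let F : ℕᵒᵖ ⥤ P.Modules := G ⋙ Scheme.Modules.pushforward h
  have hzero : ∀ (n : ℕ) (U : P.Opens), Disjoint (U : Set P) C → ∀ s : Γ(G.obj (op n), h ⁻¹ᵁ U), s = 0 :=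
    fun n U hd s => H26.FMod.section_eq_zero_of_disjoint_support (hG.1 n).1
      (Set.disjoint_left.2 fun z hz hzs => Set.disjoint_left.1 hd hz ⟨z, support_subset hG n hzs, rfl⟩) s
  have hF : Formal.IsCohFormal I F := by
    refine ⟨hGn, fun n a ha => ?_, fun n => ?_⟩
    · show Formal.smulMod A ((Scheme.Modules.pushforward h).obj (G.obj (op n))) a = 0
      rw [← Algz7.pushforward_smulMod h hh, hG.2.1 n a ha, Functor.map_zero]
    let t := G.map (homOfLE (Nat.le_succ n)).op
    obtain ⟨hz0, hiso⟩ := hG.2.2 n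
    have hz : Formal.smulFamily (I ^ (n + 1)) (F.obj (op (n + 1))) ≫ (Scheme.Modules.pushforward h).map t = 0 := by
      refine Sigma.hom_ext _ _ fun b => ?_
      rw [comp_zero, ← Category.assoc]
      refine (congrArg (· ≫ _) (Sigma.ι_desc _ _)).trans ?_
      show Formal.smulMod A ((Scheme.Modules.pushforward h).obj (G.obj (op (n + 1)))) b.1 ≫ _ = 0
      rw [← Algz7.pushforward_smulMod h hh, ← Functor.map_comp]
      have e : Formal.smulMod A (G.obj (op (n + 1))) b.1 ≫ t = 0 := by
        rw [← show Sigma.ι (fun _ : ↥(I ^ (n + 1)) => G.obj (op (n + 1))) b ≫ Formal.smulFamily _ _ =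
          Formal.smulMod A (G.obj (op (n + 1))) b.1 from Sigma.ι_desc _ _, Category.assoc, hz0, comp_zero]
      rw [e, Functor.map_zero]
    refine ⟨hz, isIso_of_parts _ h.opensRange hCc hCO (fun U hU hle => ?_) (fun U hU hd => ?_)⟩
    · have hM := (hGn (n + 1)).1
      have hQ := QCoh.isQCoh_cokernel (QCoh.isQCoh_colimit
        (Discrete.functor fun _ : ↥(I ^ (n + 1)) => F.obj (op (n + 1))) fun _ => hM) hM
        (Formal.smulFamily (I ^ (n + 1)) (F.obj (op (n + 1))))
      have hU' : IsAffineOpen (h ⁻¹ᵁ U) := hU.preimage_of_isOpenImmersion h hle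
      have hd : ∀ x, (cokernel.desc _ _ hz).app U ((cokernel.π (Formal.smulFamily (I ^ (n + 1)) (F.obj (op (n + 1))))).app U x) =
          t.app (h ⁻¹ᵁ U) x := fun x => congr(($(cokernel.π_desc _ _ hz)).app U x)
      refine ⟨(injective_iff_map_eq_zero _).2 fun z hz1 => ?_, fun y => ?_⟩
      · obtain ⟨x, rfl⟩ := QCoh.app_surjective_of_epi hM hQ (cokernel.π _) hU z
        have hx := mem_of_step_eq_zero hG n hU' ((hd x).symm.trans hz1)
        refine π_app_eq_zero _ (I ^ (n + 1)) U ?_
        rw [show (I ^ (n + 1)).map (φsec (A := A) (h ⁻¹ᵁ U)) = ((I ^ (n + 1)).map (φsec (A := A) U)).map (h.app U).hom by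
          rw [Ideal.map_map]
          congr 1
          refine RingHom.ext fun a => ?_
          show _ = h.app U (φsec U a)
          rw [Scheme.Hom.app_eq_appLE, appLE_φsec h hh]] at hx
        refine Submodule.smul_induction_on
          (p := fun v : Γ(G.obj (op (n + 1)), h ⁻¹ᵁ U) => (show Γ((Scheme.Modules.pushforward h).obj (G.obj (op (n + 1))), U) from v) ∈
            (I ^ (n + 1)).map (φsec (A := A) U) • (⊤ : Submodule Γ(P, U) Γ((Scheme.Modules.pushforward h).obj (G.obj (op (n + 1))), U)))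
          hx (fun r hr v _ => ?_) fun v v' hv hv' => add_mem hv hv'
        refine Submodule.span_induction (p := fun r _ => ∀ v : Γ(G.obj (op (n + 1)), h ⁻¹ᵁ U),
          (show Γ((Scheme.Modules.pushforward h).obj (G.obj (op (n + 1))), U) from r • v) ∈
            (I ^ (n + 1)).map (φsec (A := A) U) • (⊤ : Submodule Γ(P, U) Γ((Scheme.Modules.pushforward h).obj (G.obj (op (n + 1))), U)))
          ?_ ?_ ?_ ?_ hr v
        · rintro _ ⟨b, hb, rfl⟩ v
          exact Submodule.smul_mem_smul (M := Γ((Scheme.Modules.pushforward h).obj (G.obj (op (n + 1))), U)) hb Submodule.mem_top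
        · intro v; rw [zero_smul]; exact zero_mem _
        · intro a b _ _ ha hb v; rw [add_smul]; exact add_mem (ha v) (hb v)
        · intro a b _ hb v; rw [smul_eq_mul, mul_comm, mul_smul]; exact hb _
      · haveI : Epi t := Algz7.epi_step hG n
        obtain ⟨x, hx⟩ := QCoh.app_surjective_of_epi (hG.1 (n + 1)).1 (hG.1 n).1 t hU' y
        exact ⟨(cokernel.π (Formal.smulFamily (I ^ (n + 1)) (F.obj (op (n + 1))))).app U x, (hd x).trans hx⟩
    · have hQ := QCoh.isQCoh_cokernel (QCoh.isQCoh_colimit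
        (Discrete.functor fun _ : ↥(I ^ (n + 1)) => F.obj (op (n + 1))) fun _ => (hGn (n + 1)).1) (hGn (n + 1)).1
        (Formal.smulFamily (I ^ (n + 1)) (F.obj (op (n + 1))))
      refine ⟨fun a b _ => ?_, fun y => ⟨0, ?_⟩⟩
      · obtain ⟨x, rfl⟩ := QCoh.app_surjective_of_epi (hGn (n + 1)).1 hQ (cokernel.π _) hU a
        obtain ⟨x', rfl⟩ := QCoh.app_surjective_of_epi (hGn (n + 1)).1 hQ (cokernel.π _) hU b
        rw [show x = x' from (hzero (n + 1) U hd x).trans (hzero (n + 1) U hd x').symm]
      · rw [map_zero]; exact (hzero n U hd y).symm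
  obtain ⟨M, hM, ⟨β⟩⟩ := exists_algebraization_proper I P F hF
  -- the support
  have hsub : CohB1.support M ⊆ (h.opensRange : Set P) :=
    subset_of_fibre (IsAdicComplete.le_jacobson_bot I) (QCoh.isClosed_support_of_isFT hM.1 hM.2) h.opensRange.2
      fun z hz hzI => by
        by_contra hn
        refine notMem_support hM hzI (Ideal.pow_le_self (Nat.succ_ne_zero 0)) (fun hs => ?_) (isCoh_modJ _ hM) hz
        have hs' : z ∈ CohB1.support ((Scheme.Modules.pushforward h).obj (G.obj (op 0))) := by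
          exact (QCoh.support_iso (β.app (op 0)) (isCoh_modJ _ hM).1).le hs
        have hC' : IsClosed (⇑h '' CohB1.support (G.obj (op 0))) := hCc
        exact hn (hCO (H26.FMod.support_pushforward_subset h (hG.1 0).1 (hGn 0).1 hC' hs'))
  let M' := (Scheme.Modules.pullback h).obj M
  have hM' : Coh.IsCoh M' := ZClosLib.isCoh_pullback h hM
  refine ⟨M', hM', ?_, ⟨pullCompIso h hh I M ≪≫ Functor.isoWhiskerRight β (Scheme.Modules.pullback h) ≪≫
    Functor.associator G (Scheme.Modules.pushforward h) (Scheme.Modules.pullback h) ≪≫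
    Functor.isoWhiskerLeft G (asIso (Scheme.Modules.pullbackPushforwardAdjunction h).counit) ≪≫ G.rightUnitor⟩⟩
  let j := (Scheme.IdealSheafData.vanishingIdeal ⟨CohB1.support M, QCoh.isClosed_support_of_isFT hM.1 hM.2⟩).subschemeι
  have hj : Set.range j ⊆ Set.range h := by
    rw [QCoh.range_vanishing]; exact hsub
  let l := IsOpenImmersion.lift h j hj
  have hl : l ≫ h = j := IsOpenImmersion.lift_fac _ _ _
  haveI : IsClosedImmersion l := by
    haveI : IsClosedImmersion (l ≫ h) := by rw [hl]; infer_instance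
    exact IsClosedImmersion.of_comp l h
  haveI : IsProper (l ≫ (O ↘ Spec (CommRingCat.of A))) := by
    rw [← hh, ← Category.assoc, hl]
    infer_instance
  have hsM : CohB1.support M' = ⇑h ⁻¹' CohB1.support M := QCoh.support_pullback h hM.1 hM.2
  refine QCoh.isProperOver_of_subset l (QCoh.isClosed_support_of_isFT hM'.1 hM'.2) ?_
  intro x hx
  rw [hsM] at hx
  obtain ⟨z, hz⟩ : h x ∈ Set.range j := by rw [QCoh.range_vanishing]; exact hx
  refine ⟨z, h.isOpenEmbedding.injective ?_⟩
  rw [← Scheme.Hom.comp_apply, hl, hz]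

include I in
/-- Existence with proper support on a quasi-projective scheme. -/
theorem exists_alg_qp {N : ℕ} {X : Scheme.{u}} [X.Over (Spec (CommRingCat.of A))] [CompactSpace X]
    (j : X ⟶ CohB1.ProjSpace N A) [IsImmersion j]
    (hj : j ≫ CohB1.ProjSpace.toSpec N A = X ↘ Spec (CommRingCat.of A))
    (G : ℕᵒᵖ ⥤ X.Modules) (hG : Formal.IsCohFormal I G)
    (hGs : ClSub.IsProperOver (X ↘ Spec (CommRingCat.of A)) (CohB1.support (G.obj (op 0)))) :
    ∃ M : X.Modules, Coh.IsCoh M ∧ ClSub.IsProperOver (X ↘ Spec (CommRingCat.of A)) (CohB1.support M) ∧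
      Nonempty (Formal.completion I M ≅ G) := by
  haveI := PnCoh.Chow.isProper_toSpec N A
  haveI : QuasiSeparatedSpace (CohB1.ProjSpace N A) := quasiSeparatedSpace_of_quasiSeparated (CohB1.ProjSpace.toSpec N A)
  haveI : QuasiCompact j := quasiCompact_of_compactSpace j
  letI : j.image.Over (Spec (CommRingCat.of A)) := ⟨j.imageι ≫ CohB1.ProjSpace.toSpec N A⟩
  haveI : IsProper (j.image ↘ Spec (CommRingCat.of A)) :=
    MorphismProperty.comp_mem @IsProper _ _ (inferInstanceAs (IsProper (Scheme.IdealSheafData.subschemeι _))) inferInstance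
  refine exists_alg_open I j.toImage ?_ G hG hGs
  show j.toImage ≫ j.imageι ≫ CohB1.ProjSpace.toSpec N A = _
  rw [← Category.assoc, Scheme.Hom.toImage_imageι, hj]

end Groth.Agent.ExistSep
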