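import Groth.Agent.ExistEasy.PP.Existence
import Groth.Agent.QCoh.ProperOver2
import Groth.Agent.PicLift.ClosedAlg
import Groth.Agent.H26.FMod.AlgPush

/-!
Supports of coherent formal modules.
-/

set_option autoImplicit false
set_option backward.isDefEq.respectTransparency false
set_option backward.isDefEq.respectTransparency.types false
set_option linter.style.haveILetI false

universe u

open CategoryTheory CategoryTheory.Limits AlgebraicGeometry TopologicalSpace Opposite

noncomputable section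

namespace Groth.Agent.ExistSep

open Groth.Agent Groth.Agent.FFun Groth.Agent.ExistEasy

variable {A : Type u} [CommRing A] {X : Scheme.{u}} [X.Over (Spec (CommRingCat.of A))]

/-- Sections killed by a step lie in the ideal times the sections. -/
theorem mem_of_step_eq_zero {I : Ideal A} {G : ℕᵒᵖ ⥤ X.Modules} (hG : Formal.IsCohFormal I G) (n : ℕ)
    {U : X.Opens} (hU : IsAffineOpen U) {s : Γ(G.obj (op (n + 1)), U)}
    (hs : (G.map (homOfLE (Nat.le_succ n)).op).app U s = 0) :
    s ∈ (I ^ (n + 1)).map (φsec (A := A) U) • (⊤ : Submodule Γ(X, U) Γ(G.obj (op (n + 1)), U)) := by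
  obtain ⟨h, hiso⟩ := hG.2.2 n
  refine mem_of_π_app_eq_zero (hG.1 (n + 1)).1 _ hU ?_
  haveI := hiso
  refine QCoh.app_injective (cokernel.desc _ _ h) U ?_
  rw [map_zero]
  exact (congr(($(cokernel.π_desc _ _ h)).app U s)).trans hs

/-- The terms vanish outside the support of the first. -/
theorem eq_zero_of_disjoint {I : Ideal A} {G : ℕᵒᵖ ⥤ X.Modules} (hG : Formal.IsCohFormal I G)
    {U : X.Opens} (hU : IsAffineOpen U) (hd : Disjoint (U : Set X) (CohB1.support (G.obj (op 0)))) (n : ℕ)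
    (s : Γ(G.obj (op n), U)) : s = 0 := by
  induction n with
  | zero => exact H26.FMod.section_eq_zero_of_disjoint_support (hG.1 0).1 hd s
  | succ n ih =>
    have hall : ∀ t : Γ(G.obj (op (n + 1)), U),
        t ∈ (I ^ (n + 1)).map (φsec (A := A) U) • (⊤ : Submodule Γ(X, U) Γ(G.obj (op (n + 1)), U)) :=
      fun t => mem_of_step_eq_zero hG n hU (ih _)
    have hkill : ∀ a ∈ I ^ (n + 1 + 1), ∀ t : Γ(G.obj (op (n + 1)), U), φsec (A := A) U a • t = 0 := fun a ha t => by
      show (Formal.smulMod A (G.obj (op (n + 1))) a).app U t = 0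
      rw [hG.2.1 (n + 1) a ha]; rfl
    have h2 : s ∈ ((I ^ (n + 1)).map (φsec (A := A) U) * (I ^ (n + 1)).map (φsec (A := A) U)) •
        (⊤ : Submodule Γ(X, U) Γ(G.obj (op (n + 1)), U)) := by
      rw [Submodule.mul_smul]
      exact Submodule.smul_mono le_rfl (fun t _ => hall t) (hall s)
    rw [← Ideal.map_mul, ← pow_add] at h2
    refine Submodule.smul_induction_on h2 (fun r hr t _ => ?_) fun a b ha hb => by rw [ha, hb, add_zero]
    refine Submodule.span_induction (p := fun r _ => ∀ t : Γ(G.obj (op (n + 1)), U), r • t = 0) ?_ ?_ ?_ ?_ hr t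
    · rintro _ ⟨a, ha, rfl⟩ t
      exact hkill a (Ideal.pow_le_pow_right (by omega) ha) t
    · exact fun t => zero_smul _ t
    · exact fun a b _ _ ha hb t => by rw [add_smul, ha, hb, add_zero]
    · exact fun a b _ hb t => by rw [smul_eq_mul, mul_smul, hb, smul_zero]

/-- The supports of the terms lie in that of the first. -/
theorem support_subset {I : Ideal A} {G : ℕᵒᵖ ⥤ X.Modules} (hG : Formal.IsCohFormal I G) (n : ℕ) :
    CohB1.support (G.obj (op n)) ⊆ CohB1.support (G.obj (op 0)) := fun x hx => by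
  by_contra hn
  obtain ⟨_, ⟨U, hU, rfl⟩, hxU, hsub⟩ := X.isBasis_affineOpens.exists_subset_of_mem_open hn
    (QCoh.isClosed_support_of_isFT (hG.1 0).1 (hG.1 0).2).isOpen_compl
  have hU' : IsAffineOpen U := hU
  refine (QCoh.notMem_support_iff (hG.1 n).1 hU' hxU).2 (fun m => ⟨1, ?_, ?_⟩) hx
  · rw [Scheme.basicOpen_of_isUnit _ isUnit_one]; exact hxU
  · rw [one_smul]
    exact eq_zero_of_disjoint hG hU' (Set.disjoint_left.2 fun z hz hzs => hsub hz hzs) n m

/-- Nakayama at a point over the closed subset. -/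
theorem notMem_support {I : Ideal A} {M : X.Modules} (hM : Coh.IsCoh M) {x : X}
    (hxI : I ≤ ((X ↘ Spec (CommRingCat.of A)) x : PrimeSpectrum A).asIdeal) {J : Ideal A} (hJI : J ≤ I)
    (hx : x ∉ CohB1.support (modJ J M)) (hq : Coh.IsCoh (modJ J M)) : x ∉ CohB1.support M := by
  obtain ⟨_, ⟨U, hU, rfl⟩, hxU, hsub⟩ := X.isBasis_affineOpens.exists_subset_of_mem_open hx
    (QCoh.isClosed_support_of_isFT hq.1 hq.2).isOpen_compl
  have hU' : IsAffineOpen U := hU
  have htop : (⊤ : Submodule Γ(X, U) Γ(M, U)) ≤ J.map (φsec (A := A) U) • ⊤ := fun t _ =>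
    mem_of_π_app_eq_zero hM.1 J hU' (H26.FMod.section_eq_zero_of_disjoint_support hq.1
      (Set.disjoint_left.2 fun z hz hzs => hsub hz hzs) _)
  haveI := QCoh.finite_sections hM hU'
  obtain ⟨r, hr, hr0⟩ := Submodule.exists_sub_one_mem_and_smul_eq_zero_of_fg_of_le_smul _ ⊤ Module.Finite.fg_top htop
  refine (QCoh.notMem_support_iff hM.1 hU' hxU).2 fun m => ⟨r, ?_, hr0 m Submodule.mem_top⟩
  rw [X.mem_basicOpen _ x hxU]
  have hmem : r - 1 ∈ (IsLocalRing.maximalIdeal (X.presheaf.stalk x)).comap (X.presheaf.germ U x hxU).hom := by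
    refine Ideal.map_le_iff_le_comap.2 (fun b hb => ?_) hr
    rw [Ideal.mem_comap, Ideal.mem_comap, IsLocalRing.mem_maximalIdeal, mem_nonunits_iff]
    intro hb'
    have e : φsec (A := A) U b =
        X.presheaf.map (homOfLE (le_top : U ≤ ⊤)).op (Coh.toGlobal (X ↘ Spec (CommRingCat.of A)) b) := rfl
    rw [e, TopCat.Presheaf.germ_res_apply] at hb'
    have h1 : x ∈ X.basicOpen (Coh.toGlobal (X ↘ Spec (CommRingCat.of A)) b) := (X.mem_basicOpen _ _ _).2 hb'
    rw [show Coh.toGlobal (X ↘ Spec (CommRingCat.of A)) b =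
      (X ↘ Spec (CommRingCat.of A)).appTop ((Scheme.ΓSpecIso (CommRingCat.of A)).inv b) from rfl,
      ← Scheme.preimage_basicOpen_top, basicOpen_eq_of_affine'] at h1
    rw [Iso.inv_hom_id_apply] at h1
    exact (show b ∉ ((X ↘ Spec (CommRingCat.of A)) x : PrimeSpectrum A).asIdeal from h1) (hxI (hJI hb))
  rw [Ideal.mem_comap, map_sub, map_one] at hmem
  by_contra hu
  have h2 : X.presheaf.germ U x hxU r ∈ IsLocalRing.maximalIdeal (X.presheaf.stalk x) :=
    (IsLocalRing.mem_maximalIdeal _).2 hu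
  have h3 := Ideal.sub_mem _ h2 hmem
  rw [sub_sub_cancel] at h3
  exact (IsLocalRing.maximalIdeal.isMaximal _).ne_top (Ideal.eq_top_of_isUnit_mem _ h3 isUnit_one)

/-- Closed subsets of a proper scheme are detected over the closed subset. -/
theorem subset_of_fibre [IsProper (X ↘ Spec (CommRingCat.of A))] {I : Ideal A} (hI : I ≤ Ideal.jacobson ⊥)
    {S : Set X} (hS : IsClosed S) {O : Set X} (hO : IsOpen O)
    (h : ∀ z ∈ S, I ≤ ((X ↘ Spec (CommRingCat.of A)) z : PrimeSpectrum A).asIdeal → z ∈ O) : S ⊆ O := fun x hx => by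
  have hcl : IsClosed ((X ↘ Spec (CommRingCat.of A)).base '' closure {x}) :=
    (X ↘ Spec (CommRingCat.of A)).isClosedMap _ isClosed_closure
  let p : PrimeSpectrum A := (X ↘ Spec (CommRingCat.of A)) x
  obtain ⟨m, hm, hpm⟩ := p.asIdeal.exists_le_maximal p.isPrime.ne_top
  have h2 : (⟨m, hm.isPrime⟩ : PrimeSpectrum A) ∈ (X ↘ Spec (CommRingCat.of A)).base '' closure {x} :=
    ((PrimeSpectrum.le_iff_specializes p ⟨m, hm.isPrime⟩).1 hpm).mem_closed hcl ⟨x, subset_closure rfl, rfl⟩
  obtain ⟨z, hz, hzm⟩ := h2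
  refine (specializes_iff_mem_closure.2 hz).mem_open hO (h z (closure_minimal (Set.singleton_subset_iff.2 hx) hS hz) ?_)
  rw [hzm]
  exact hI.trans (sInf_le ⟨bot_le, hm⟩)

end Groth.Agent.ExistSep
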